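import Mathlib
import Cfsg.Agent.Lib.Helper58.UPair.Defs
import Cfsg.Agent.Lib.Helper45.HermBasic

/-!
# Project UPair (S5984), package [D1]

`x² = l²`, `l` of norm 1, both eigenspaces of even dimension: `x` fixes a pair of complementary
totally singular `n/2`-spaces.
-/

set_option autoImplicit false

namespace Cfsg.Agent.Lib.Helper82.UPair

open Matrix Cfsg.Agent.Lib.Helper58.UPair Cfsg.Agent.Lib.Helper45

universe u

theorem pkgD1_of (hH : PkgHyp.{u}) : PkgD1.{u} := by
  intro F _ _ q n x l hF hq hn hn2 hx hx2 hl hrk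
  classical
  have hq0 : q ≠ 0 := by
    rcases hq with ⟨k, rfl⟩
    omega
  have hl0 : l ≠ 0 := by
    rintro rfl
    rw [zero_pow (by omega)] at hl
    exact zero_ne_one hl
  have h2 : (2 : F) ≠ 0 := by
    intro h
    have h' : ((2 : ℕ) : F) = 0 := by exact_mod_cast h
    have hc : ringChar F = 2 := CharP.ringChar_of_prime_eq_zero Nat.prime_two h'
    have he := FiniteField.even_card_iff_char_two.mp hc
    rw [hF] at he
    have ho : Odd (q ^ 2) := hq.pow
    rw [Nat.odd_iff] at ho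
    omega
  have h2l : (2 * l : F) ≠ 0 := mul_ne_zero h2 hl0
  obtain ⟨T, hTapp⟩ : ∃ T : (Fin n → F) →ₗ[F] (Fin n → F),
      ∀ v, T v = (x : Matrix (Fin n) (Fin n) F) *ᵥ v :=
    ⟨Matrix.toLin' (x : Matrix (Fin n) (Fin n) F), fun v => Matrix.toLin'_apply _ v⟩
  have hTlin : T = Matrix.toLin' (x : Matrix (Fin n) (Fin n) F) := by
    apply LinearMap.ext
    intro v
    rw [hTapp, Matrix.toLin'_apply]
  have hTT : ∀ v, T (T v) = (l ^ 2) • v := by
    intro v
    rw [hTapp, hTapp, Matrix.mulVec_mulVec, ← sq, ← Units.val_pow_eq_pow_val, hx2,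
      Matrix.smul_mulVec, Matrix.one_mulVec]
  have hiso : ∀ u v, Cfsg.hermForm n F q (T u) (T v) = Cfsg.hermForm n F q u v := by
    intro u v
    rw [hTapp, hTapp]
    exact hx u v
  obtain ⟨Vp, hVp⟩ : ∃ Vp : Submodule F (Fin n → F), ∀ v, v ∈ Vp ↔ T v = l • v :=
    ⟨LinearMap.ker (T - l • LinearMap.id), fun v => by
      rw [LinearMap.mem_ker, LinearMap.sub_apply, LinearMap.smul_apply, LinearMap.id_apply,
        sub_eq_zero]⟩
  obtain ⟨Vm, hVm⟩ : ∃ Vm : Submodule F (Fin n → F), ∀ v, v ∈ Vm ↔ T v = -(l • v) :=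
    ⟨LinearMap.ker (T + l • LinearMap.id), fun v => by
      rw [LinearMap.mem_ker, LinearMap.add_apply, LinearMap.smul_apply, LinearMap.id_apply,
        add_eq_zero_iff_eq_neg]⟩
  -- decomposition
  have hdec : ∀ v, ∃ a ∈ Vp, ∃ b ∈ Vm, v = a + b := by
    intro v
    refine ⟨(2 * l)⁻¹ • (T v + l • v), ?_, (2 * l)⁻¹ • (l • v - T v), ?_, ?_⟩
    · rw [hVp, map_smul, map_add, map_smul, hTT]
      module
    · rw [hVm, map_smul, map_sub, map_smul, hTT]
      module
    · rw [← smul_add]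
      have e : T v + l • v + (l • v - T v) = (2 * l) • v := by module
      rw [e, smul_smul, inv_mul_cancel₀ h2l, one_smul]
  have hinf : ∀ v, v ∈ Vp → v ∈ Vm → v = 0 := by
    intro v hp hm
    have e : l • v = -(l • v) := ((hVp v).mp hp).symm.trans ((hVm v).mp hm)
    have e2 : (2 * l) • v = 0 := by
      have e3 : (2 * l) • v = l • v + l • v := by module
      rw [e3]
      nth_rewrite 1 [e]
      simp
    exact (smul_eq_zero.mp e2).resolve_left h2l
  -- orthogonality
  have hconj : (-l) ^ q = -(l ^ q) := hq.neg_pow l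
  have hll : l * l ^ q = 1 := by
    rw [← pow_succ']
    exact hl
  have horth : ∀ a ∈ Vp, ∀ b ∈ Vm,
      Cfsg.hermForm n F q a b = 0 ∧ Cfsg.hermForm n F q b a = 0 := by
    intro a ha b hb
    have ea := (hVp a).mp ha
    have eb := (hVm b).mp hb
    constructor
    · have e := hiso a b
      rw [ea, eb, ← neg_smul, herm_smul_left, herm_smul_right, hconj] at e
      have e' : (2 : F) * Cfsg.hermForm n F q a b = 0 := by
        linear_combination (-1 : F) * e - Cfsg.hermForm n F q a b * hll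
      exact (mul_eq_zero.mp e').resolve_left h2
    · have e := hiso b a
      rw [ea, eb, ← neg_smul, herm_smul_left, herm_smul_right] at e
      have e' : (2 : F) * Cfsg.hermForm n F q b a = 0 := by
        linear_combination (-1 : F) * e - Cfsg.hermForm n F q b a * hll
      exact (mul_eq_zero.mp e').resolve_left h2
  -- non-degeneracy
  have hex : ∀ u : Fin n → F, u ≠ 0 → ∃ i, u i ≠ 0 := by
    intro u hu0
    by_contra hcon
    push_neg at hcon
    exact hu0 (funext hcon)
  have hndp : ∀ u ∈ Vp, u ≠ 0 → ∃ v ∈ Vp, Cfsg.hermForm n F q u v ≠ 0 := by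
    intro u hu hu0
    obtain ⟨i, hi⟩ := hex u hu0
    obtain ⟨a, ha, b, hb, hab⟩ := hdec (Pi.single i 1)
    refine ⟨a, ha, ?_⟩
    have e := herm_single_right (F := F) hq0 n u i
    rw [hab, herm_add_right hF, (horth u hu b hb).1, add_zero] at e
    rw [e]
    exact hi
  have hndm : ∀ u ∈ Vm, u ≠ 0 → ∃ v ∈ Vm, Cfsg.hermForm n F q u v ≠ 0 := by
    intro u hu hu0
    obtain ⟨i, hi⟩ := hex u hu0
    obtain ⟨a, ha, b, hb, hab⟩ := hdec (Pi.single i 1)
    refine ⟨b, hb, ?_⟩
    have e := herm_single_right (F := F) hq0 n u i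
    rw [hab, herm_add_right hF, (horth a ha u hu).2, zero_add] at e
    rw [e]
    exact hi
  -- dimensions
  have hsup : Vp ⊔ Vm = ⊤ := by
    rw [eq_top_iff]
    intro v _
    obtain ⟨a, ha, b, hb, rfl⟩ := hdec v
    exact Submodule.add_mem_sup ha hb
  have hdisj : Vp ⊓ Vm = ⊥ := by
    rw [eq_bot_iff]
    intro v hv
    exact (Submodule.mem_bot F).mpr (hinf v hv.1 hv.2)
  have hdim : Module.finrank F Vp + Module.finrank F Vm = n := by
    have e := Submodule.finrank_sup_add_finrank_inf_eq Vp Vm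
    rw [hsup, hdisj, finrank_top, finrank_bot, add_zero, Module.finrank_fin_fun] at e
    exact e.symm
  have hrank : (sh x l).rank + Module.finrank F Vp = n := by
    have hker : LinearMap.ker (sh x l).mulVecLin = Vp := by
      ext v
      rw [LinearMap.mem_ker, Matrix.mulVecLin_apply, hVp, hTapp]
      unfold sh
      rw [Matrix.sub_mulVec, Matrix.smul_mulVec, Matrix.one_mulVec, sub_eq_zero]
    have e := LinearMap.finrank_range_add_finrank_ker (sh x l).mulVecLin
    rw [hker, Module.finrank_fin_fun] at e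
    exact e
  obtain ⟨b, hb⟩ := hrk
  obtain ⟨m, hm⟩ := hn
  have hVm_dim : Module.finrank F Vm = 2 * b := by omega
  have hVp_dim : Module.finrank F Vp = 2 * (m - b) := by omega
  obtain ⟨Up, Up', hUpV, hUp'V, hUpts, hUp'ts, hUpd, hUp'd, hUpdis⟩ :=
    hH F q n (m - b) Vp hF hndp hVp_dim
  obtain ⟨Um, Um', hUmV, hUm'V, hUmts, hUm'ts, hUmd, hUm'd, hUmdis⟩ :=
    hH F q n b Vm hF hndm hVm_dim
  -- general facts
  have hts : ∀ A B : Submodule F (Fin n → F), A ≤ Vp → B ≤ Vm →
      Cfsg.Geo.IsTotallySingularFor (Cfsg.hermForm n F q) A →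
      Cfsg.Geo.IsTotallySingularFor (Cfsg.hermForm n F q) B →
      Cfsg.Geo.IsTotallySingularFor (Cfsg.hermForm n F q) (A ⊔ B) := by
    intro A B hA hB tA tB u hu v hv
    obtain ⟨a, ha, b', hb', rfl⟩ := Submodule.mem_sup.mp hu
    obtain ⟨a', ha', b'', hb'', rfl⟩ := Submodule.mem_sup.mp hv
    rw [herm_add_left, herm_add_right hF, herm_add_right hF, tA a ha a' ha', tB b' hb' b'' hb'',
      (horth a (hA ha) b'' (hB hb'')).1, (horth a' (hA ha') b' (hB hb')).2]
    simp
  have hfr : ∀ A B : Submodule F (Fin n → F), A ≤ Vp → B ≤ Vm →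
      Module.finrank F ↥(A ⊔ B) = Module.finrank F A + Module.finrank F B := by
    intro A B hA hB
    have e := Submodule.finrank_sup_add_finrank_inf_eq A B
    have hbot : A ⊓ B = ⊥ := by
      rw [eq_bot_iff]
      intro v hv
      exact (Submodule.mem_bot F).mpr (hinf v (hA hv.1) (hB hv.2))
    rw [hbot, finrank_bot, add_zero] at e
    exact e
  have hfix : ∀ A B : Submodule F (Fin n → F), A ≤ Vp → B ≤ Vm →
      (A ⊔ B).map T = A ⊔ B := by
    intro A B hA hB
    rw [Submodule.map_sup]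
    congr 1
    · apply le_antisymm
      · rintro _ ⟨a, ha, rfl⟩
        rw [(hVp a).mp (hA ha)]
        exact A.smul_mem l ha
      · intro a ha
        refine ⟨l⁻¹ • a, A.smul_mem _ ha, ?_⟩
        rw [map_smul, (hVp a).mp (hA ha), smul_smul, inv_mul_cancel₀ hl0, one_smul]
    · apply le_antisymm
      · rintro _ ⟨a, ha, rfl⟩
        rw [(hVm a).mp (hB ha)]
        exact B.neg_mem (B.smul_mem l ha)
      · intro a ha
        refine ⟨(-l⁻¹) • a, B.smul_mem _ ha, ?_⟩
        rw [map_smul, (hVm a).mp (hB ha), smul_neg, neg_smul, neg_neg, smul_smul,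
          inv_mul_cancel₀ hl0, one_smul]
  have hD01 : Disjoint (Up ⊔ Um) (Up' ⊔ Um') := by
    rw [Submodule.disjoint_def]
    intro v hv hv'
    obtain ⟨a, ha, c, hc, rfl⟩ := Submodule.mem_sup.mp hv
    obtain ⟨a', ha', c', hc', hsum⟩ := Submodule.mem_sup.mp hv'
    have hdiff : a - a' = c' - c := by
      rw [sub_eq_sub_iff_add_eq_add, ← hsum, add_comm]
    have hz : a - a' = 0 := by
      apply hinf _ (Vp.sub_mem (hUpV ha) (hUp'V ha'))
      rw [hdiff]
      exact Vm.sub_mem (hUm'V hc') (hUmV hc)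
    have haa : a = a' := sub_eq_zero.mp hz
    have hcc : c' = c := by
      rw [hz] at hdiff
      exact sub_eq_zero.mp hdiff.symm
    have ha0 : a = 0 := Submodule.disjoint_def.mp hUpdis a ha (by rw [haa]; exact ha')
    have hc0 : c = 0 := Submodule.disjoint_def.mp hUmdis c hc (by rw [← hcc]; exact hc')
    rw [ha0, hc0, add_zero]
  have hab : (m - b) + b = n / 2 := by omega
  refine ⟨![Up ⊔ Um, Up' ⊔ Um'], ⟨⟨le_refl 2, by omega, ?_, ?_, ?_⟩, ?_⟩, ?_⟩
  · refine Fin.forall_fin_two.mpr ⟨?_, ?_⟩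
    · show Module.finrank F ↥(Up ⊔ Um) = n / 2
      rw [hfr Up Um hUpV hUmV, hUpd, hUmd]
      exact hab
    · show Module.finrank F ↥(Up' ⊔ Um') = n / 2
      rw [hfr Up' Um' hUp'V hUm'V, hUp'd, hUm'd]
      exact hab
  · rw [iSupIndep_pair (i := (0 : Fin 2)) (j := 1) (by decide) (by decide)]
    exact hD01
  · have htop : (Up ⊔ Um) ⊔ (Up' ⊔ Um') = ⊤ := by
      apply Submodule.eq_top_of_finrank_eq
      have e := Submodule.finrank_sup_add_finrank_inf_eq (Up ⊔ Um) (Up' ⊔ Um')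
      rw [hD01.eq_bot, finrank_bot, add_zero, hfr Up Um hUpV hUmV, hfr Up' Um' hUp'V hUm'V,
        hUpd, hUmd, hUp'd, hUm'd] at e
      rw [e, Module.finrank_fin_fun]
      omega
    rw [eq_top_iff, ← htop]
    exact sup_le (le_iSup (![Up ⊔ Um, Up' ⊔ Um']) 0) (le_iSup (![Up ⊔ Um, Up' ⊔ Um']) 1)
  · refine Fin.forall_fin_two.mpr ⟨?_, ?_⟩
    · exact hts Up Um hUpV hUmV hUpts hUmts
    · exact hts Up' Um' hUp'V hUm'V hUp'ts hUm'ts
  · refine Fin.forall_fin_two.mpr ⟨?_, ?_⟩
    · show (Up ⊔ Um).map (Matrix.toLin' (x : Matrix (Fin n) (Fin n) F)) = Up ⊔ Um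
      rw [← hTlin]
      exact hfix Up Um hUpV hUmV
    · show (Up' ⊔ Um').map (Matrix.toLin' (x : Matrix (Fin n) (Fin n) F)) = Up' ⊔ Um'
      rw [← hTlin]
      exact hfix Up' Um' hUp'V hUm'V

end Cfsg.Agent.Lib.Helper82.UPair
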